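import Groth.Agent.Lib.Grass.Glue
import Groth.Agent.Lib.BlowKoszul2.Algebra

/-!
The Grassmannian of rank `m` quotients of `R^(m+1)/R f`: standard charts.
-/

set_option autoImplicit false
set_option linter.style.haveILetI false
universe u

open TensorProduct Module CategoryTheory AlgebraicGeometry
open Groth.Agent.GrassLib

noncomputable section

namespace Groth.Agent.BlowGr2

variable {R : Type u} [CommRing R] {m : ℕ} (f : Fin (m + 1) → R)

/-- The cokernel of the section. -/
abbrev MM : Type u := (Fin (m + 1) → R) ⧸ Submodule.span R {f}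

/-- The class of a vector. -/
abbrev cls : (Fin (m + 1) → R) →ₗ[R] MM f := (Submodule.span R {f}).mkQ

theorem cls_self : cls f f = 0 :=
  (Submodule.Quotient.mk_eq_zero _).2 (Submodule.mem_span_singleton_self f)

/-- The standard chart omitting `k`. -/
def xk (k : Fin (m + 1)) : Fin m → MM f := fun i => cls f (Pi.single (k.succAbove i) 1)

theorem decomp (k : Fin (m + 1)) (v : Fin (m + 1) → R) :
    cls f v = v k • cls f (Pi.single k 1) + ∑ j, v (k.succAbove j) • xk f k j := by
  have h : v = ∑ l, v l • (Pi.single l (1 : R) : Fin (m + 1) → R) := pi_eq_sum_univ' v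
  conv_lhs => rw [h]
  rw [map_sum, Fin.sum_univ_succAbove _ k, map_smul]
  simp only [map_smul, xk]

variable {A B : Type u} [CommRing A] [Algebra R A] [CommRing B] [Algebra R B]

theorem ell_cls {k : Fin (m + 1)} {N : Pt R (MM f) m A} (h : InChart (xk f k) N) (v : Fin (m + 1) → R)
    (i : Fin m) : h.ell (cls f v) i =
      algebraMap R A (v k) * h.ell (cls f (Pi.single k 1)) i + algebraMap R A (v (k.succAbove i)) := by
  rw [decomp f k v, map_add, map_sum, Pi.add_apply, Finset.sum_apply, map_smul, Pi.smul_apply,
    Algebra.smul_def, Finset.sum_eq_single i]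
  · rw [map_smul, Pi.smul_apply, h.ell_apply_x, Pi.single_eq_same, Algebra.smul_def, mul_one]
  · intro j _ hj
    rw [map_smul, Pi.smul_apply, h.ell_apply_x, Pi.single_eq_of_ne hj.symm, smul_zero]
  · exact fun hi => absurd (Finset.mem_univ i) hi

theorem chart_rel {k : Fin (m + 1)} {N : Pt R (MM f) m A} (h : InChart (xk f k) N) (i : Fin m) :
    algebraMap R A (f (k.succAbove i)) = algebraMap R A (f k) * -h.ell (cls f (Pi.single k 1)) i := by
  have h1 := ell_cls f h f i
  rw [cls_self, map_zero, Pi.zero_apply] at h1
  linear_combination h1.symm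

section
variable (k : Fin (m + 1)) (T : Fin m → A)
  (hT : ∀ i, algebraMap R A (f (k.succAbove i)) = algebraMap R A (f k) * T i)

/-- Coordinates with given ratios. -/
def coord0 : (Fin (m + 1) → R) →ₗ[R] (Fin m → A) where
  toFun v i := algebraMap R A (v (k.succAbove i)) - algebraMap R A (v k) * T i
  map_add' v w := by funext i; simp only [Pi.add_apply, map_add]; ring
  map_smul' r v := by
    funext i
    simp only [Pi.smul_apply, smul_eq_mul, map_mul, RingHom.id_apply, Algebra.smul_def]; ring

include hT in
theorem coord0_self : coord0 k T f = 0 := by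
  funext i; show algebraMap R A _ - _ * _ = (0 : A); rw [hT i, sub_self]

/-- Coordinates on the cokernel. -/
def coord : MM f →ₗ[R] (Fin m → A) :=
  Submodule.liftQ _ (coord0 k T) (by
    rw [Submodule.span_le, Set.singleton_subset_iff]
    exact coord0_self f k T hT)

theorem coord_cls (v : Fin (m + 1) → R) : coord f k T hT (cls f v) = coord0 k T v := rfl

theorem coord_x (i : Fin m) : coord f k T hT (xk f k i) = Pi.single i 1 := by
  rw [xk, coord_cls]
  funext j
  show algebraMap R A _ - algebraMap R A _ * T j = _
  rw [Pi.single_eq_of_ne (Fin.succAbove_ne k i).symm, map_zero, zero_mul, sub_zero]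
  by_cases hij : j = i
  · subst hij; simp
  · rw [Pi.single_eq_of_ne (fun h => hij (Fin.succAbove_right_injective h)), Pi.single_eq_of_ne hij, map_zero]

/-- The point with given ratios. -/
def mkPt : Pt R (MM f) m A := ofEll (xk f k) (coord f k T hT) (coord_x f k T hT)

theorem inChart_mkPt : InChart (xk f k) (mkPt f k T hT) := inChart_ofEll _ _ _

theorem ell_mkPt (v : Fin (m + 1) → R) (i : Fin m) :
    (inChart_mkPt f k T hT).ell (cls f v) i =
      algebraMap R A (v (k.succAbove i)) - algebraMap R A (v k) * T i := by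
  rw [show (inChart_mkPt f k T hT).ell = coord f k T hT from ell_ofEll _]
  rfl

end

/-- Over an algebra in which the ideal is generated by the regular element `f k` there is a unique point. -/
theorem existsUnique_pt (k : Fin (m + 1)) (hreg : algebraMap R A (f k) ∈ nonZeroDivisors A)
    (hdvd : ∀ j, algebraMap R A (f k) ∣ algebraMap R A (f j)) : ∃! _N : Pt R (MM f) m A, True := by
  choose c hc using hdvd
  let T : Fin m → A := fun i => c (k.succAbove i)
  have hT : ∀ i, algebraMap R A (f (k.succAbove i)) = algebraMap R A (f k) * T i := fun i => hc _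
  refine ⟨mkPt f k T hT, trivial, fun N _ => ?_⟩
  let a : Fin m → A := fun i => -T i
  have hN : InChart (xk f k) N := by
    rw [inChart_iff]
    intro v
    induction v using TensorProduct.induction_on with
    | zero => exact ⟨0, by simp⟩
    | add p q hp hq =>
      obtain ⟨b, hb⟩ := hp
      obtain ⟨b', hb'⟩ := hq
      exact ⟨b + b', by rw [map_add, add_sub_add_comm]; exact add_mem hb hb'⟩
    | tmul r x =>
      have hkey : ∃ b, (1 : A) ⊗ₜ[R] x - lc A (xk f k) b ∈ N.toSubmodule := by
        obtain ⟨w, rfl⟩ := Submodule.mkQ_surjective _ x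
        let z := (1 : A) ⊗ₜ[R] cls f (Pi.single k 1) - lc A (xk f k) a
        have hz : z ∈ N.toSubmodule := by
          have h0 : algebraMap R A (f k) • z = 0 := by
            have h1 : (1 : A) ⊗ₜ[R] cls f f = 0 := by rw [cls_self, TensorProduct.tmul_zero]
            rw [decomp f k f, TensorProduct.tmul_add, TensorProduct.tmul_sum] at h1
            rw [← h1]
            simp only [z, lc_apply, smul_sub, Finset.smul_sum, TensorProduct.smul_tmul', smul_eq_mul,
              mul_one, a, mul_neg, TensorProduct.neg_tmul, Finset.sum_neg_distrib, sub_neg_eq_add,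
              TensorProduct.tmul_smul, Algebra.smul_def]
            simp only [smul_add, Finset.smul_sum, TensorProduct.smul_tmul', smul_eq_mul, mul_one, hT]
          rw [← Submodule.Quotient.mk_eq_zero]
          haveI := N.projective_quotient
          refine Module.Flat.isSMulRegular_of_nonZeroDivisors hreg ?_
          show algebraMap R A (f k) • _ = algebraMap R A (f k) • _
          rw [smul_zero]
          exact (Submodule.Quotient.mk_smul _ _ _).symm.trans (by rw [h0]; rfl)
        refine ⟨algebraMap R A (w k) • a + fun j => algebraMap R A (w (k.succAbove j)), ?_⟩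
        have := N.toSubmodule.smul_mem (algebraMap R A (w k)) hz
        convert this using 1
        show (1 : A) ⊗ₜ[R] cls f w - _ = _
        rw [decomp f k w, TensorProduct.tmul_add,
          TensorProduct.tmul_sum, map_add, map_smul]
        simp only [z, smul_sub, TensorProduct.tmul_smul, algebraMap_smul, lc_apply]
        simp only [TensorProduct.smul_tmul', Algebra.smul_def, mul_one]
        abel
      obtain ⟨b, hb⟩ := hkey
      refine ⟨r • b, ?_⟩
      have := N.toSubmodule.smul_mem r hb
      rwa [smul_sub, TensorProduct.smul_tmul', smul_eq_mul, mul_one, ← map_smul] at this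
  refine hN.ext (inChart_mkPt f k T hT) (LinearMap.ext fun x => ?_)
  obtain ⟨w, rfl⟩ := Submodule.mkQ_surjective _ x
  funext i
  have h1 := (chart_rel f hN i).symm.trans (hT i)
  have h2 := (mul_cancel_left_mem_nonZeroDivisors hreg).1 h1
  rw [ell_cls f hN, ell_mkPt, ← h2]
  ring

/-- Over a field every point is in a standard chart. -/
theorem exists_chart_field {K : Type u} [Field K] [Algebra R K] (N : Pt R (MM f) m K) :
    ∃ k, InChart (xk f k) N := by
  classical
  let Q := (K ⊗[R] MM f) ⧸ N.toSubmodule
  let π : K ⊗[R] MM f →ₗ[K] Q := N.toSubmodule.mkQ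
  let L : (Fin (m + 1) → K) →ₗ[K] Q :=
    Fintype.linearCombination K fun l => π ((1 : K) ⊗ₜ[R] cls f (Pi.single l 1))
  haveI := N.finite_quotient
  have hker : LinearMap.ker L ≠ ⊥ := by
    intro h
    have h1 := LinearMap.finrank_le_finrank_of_injective (LinearMap.ker_eq_bot.1 h)
    rw [Module.finrank_fin_fun] at h1
    have h3 : Module.finrank K Q = m := by
      have := N.rankAtStalk_eq (Classical.arbitrary (PrimeSpectrum K))
      rw [Module.rankAtStalk_eq_finrank_of_free] at this
      exact this
    omega
  obtain ⟨v, hv, hv0⟩ := Submodule.exists_mem_ne_zero_of_ne_bot hker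
  obtain ⟨k, hk⟩ := Function.ne_iff.1 hv0
  refine ⟨k, ?_⟩
  have hLsum : ∀ w, L w = ∑ l, w l • π ((1 : K) ⊗ₜ[R] cls f (Pi.single l 1)) := fun w =>
    Fintype.linearCombination_apply _ _ _
  let S := LinearMap.range (π ∘ₗ lc K (xk f k))
  have hx : ∀ j, π ((1 : K) ⊗ₜ[R] xk f k j) ∈ S := fun j =>
    ⟨Pi.single j 1, by rw [LinearMap.comp_apply, lc_single]⟩
  have hek : π ((1 : K) ⊗ₜ[R] cls f (Pi.single k 1)) ∈ S := by
    have h0 := hLsum v
    rw [LinearMap.mem_ker.1 hv, Fin.sum_univ_succAbove _ k] at h0
    have : v k • π ((1 : K) ⊗ₜ[R] cls f (Pi.single k 1)) ∈ S := by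
      rw [eq_neg_of_add_eq_zero_left h0.symm]
      exact neg_mem (sum_mem fun j _ => S.smul_mem _ (hx j))
    exact (S.smul_mem_iff hk).1 this
  intro q
  obtain ⟨t, rfl⟩ := Submodule.mkQ_surjective _ q
  show π t ∈ S
  induction t using TensorProduct.induction_on with
  | zero => simp
  | add p q hp hq => rw [map_add]; exact add_mem hp hq
  | tmul r x =>
    rw [show r ⊗ₜ[R] x = r • ((1 : K) ⊗ₜ[R] x) by rw [TensorProduct.smul_tmul', smul_eq_mul, mul_one], map_smul]
    refine S.smul_mem _ ?_
    obtain ⟨w, rfl⟩ := Submodule.mkQ_surjective _ x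
    rw [decomp f k w, TensorProduct.tmul_add, TensorProduct.tmul_sum, map_add, map_sum]
    refine add_mem ?_ (sum_mem fun j _ => ?_)
    · rw [TensorProduct.tmul_smul, LinearMap.map_smul_of_tower]
      exact S.smul_of_tower_mem _ hek
    · rw [TensorProduct.tmul_smul, LinearMap.map_smul_of_tower]
      exact S.smul_of_tower_mem _ (hx j)

/-- On a standard chart the ideal is generated by a regular element. -/
theorem chart_regular (hf : CI2.Ex R R (List.ofFn f)) (k : Fin (m + 1)) :
    algebraMap R (ChartSet.CRing R (single (xk f k))) (f k) ∈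
        nonZeroDivisors (ChartSet.CRing R (single (xk f k))) ∧
      ∀ j, algebraMap R (ChartSet.CRing R (single (xk f k))) (f k) ∣
        algebraMap R (ChartSet.CRing R (single (xk f k))) (f j) := by
  let S := single (xk f k)
  let C := ChartSet.CRing R S
  have h0 : InChart (xk f k) (ChartSet.pt R S) := S.inChart_pt (Finset.mem_singleton_self _)
  let T : Fin m → C := fun i => -h0.ell (cls f (Pi.single k 1)) i
  refine ⟨?_, fun j => ?_⟩
  · let P := MvPolynomial (Fin m) R
    let rels := BlowKoszul2.rel f k
    let Qr := P ⧸ Ideal.span (Set.range rels)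
    let X' : Fin m → Qr := fun i => Ideal.Quotient.mk _ (MvPolynomial.X i)
    have hX : ∀ i, algebraMap R Qr (f (k.succAbove i)) = algebraMap R Qr (f k) * X' i := fun i => by
      symm
      show Ideal.Quotient.mk _ (MvPolynomial.C (f k)) * Ideal.Quotient.mk _ (MvPolynomial.X i) =
        Ideal.Quotient.mk _ (MvPolynomial.C (f (k.succAbove i)))
      rw [← map_mul, Ideal.Quotient.eq]
      exact Ideal.subset_span ⟨i, rfl⟩
    let hQ := inChart_mkPt f k X' hX
    let χ : C →ₐ[R] Qr := ChartSet.desc (single_inChart hQ)
    let ρ : Qr →ₐ[R] C := Ideal.Quotient.liftₐ _ (MvPolynomial.aeval T) fun a ha => by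
      refine (Ideal.span_le.2 ?_ ha : a ∈ RingHom.ker (MvPolynomial.aeval (R := R) T))
      rintro _ ⟨i, rfl⟩
      show MvPolynomial.aeval T (BlowKoszul2.rel f k i) = 0
      simp only [BlowKoszul2.rel, map_sub, map_mul, MvPolynomial.aeval_C, MvPolynomial.aeval_X, T]
      rw [← chart_rel f h0 i, sub_self]
    have hid : ρ.comp χ = AlgHom.id R C := by
      refine ChartSet.hom_ext ?_
      rw [gmap_id, gmap_comp, ChartSet.gmap_desc]
      refine (hQ.gmap ρ).ext h0 (LinearMap.ext fun x => ?_)
      obtain ⟨w, rfl⟩ := Submodule.mkQ_surjective _ x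
      funext i
      rw [hQ.ell_gmap]
      show ρ (hQ.ell (cls f w) i) = h0.ell (cls f w) i
      rw [ell_mkPt, map_sub, map_mul, AlgHom.commutes, AlgHom.commutes, ell_cls f h0,
        show ρ (X' i) = T i from MvPolynomial.aeval_X _ _]
      simp only [T]; ring
    let toLoc : Qr →ₐ[R] Localization.Away (f k) :=
      Ideal.Quotient.liftₐ _ (MvPolynomial.aeval (BlowKoszul2.ratio f k)) fun a ha => by
        rw [← RingHom.mem_ker, (BlowKoszul2.ex_rel_and_ker f k hf).2]; exact ha
    have hinj : Function.Injective toLoc := by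
      rw [injective_iff_map_eq_zero]
      intro a ha
      obtain ⟨a, rfl⟩ := Ideal.Quotient.mk_surjective a
      rw [Ideal.Quotient.eq_zero_iff_mem, ← (BlowKoszul2.ex_rel_and_ker f k hf).2]
      exact ha
    rw [mem_nonZeroDivisors_iff_right]
    intro z hz
    have h1 : toLoc (χ z) * algebraMap R _ (f k) = 0 := by
      rw [← toLoc.commutes, ← χ.commutes, ← map_mul, ← map_mul, hz, map_zero, map_zero]
    have h2 : χ z = 0 := hinj (by
      rw [map_zero]; exact (IsLocalization.Away.algebraMap_isUnit (f k)).mul_left_eq_zero.1 h1)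
    rw [← AlgHom.id_apply (R := R) z, ← hid, AlgHom.comp_apply, h2, map_zero]
  · obtain rfl | ⟨i, rfl⟩ := Fin.eq_self_or_eq_succAbove k j
    · exact dvd_rfl
    · exact ⟨T i, chart_rel f h0 i⟩

end Groth.Agent.BlowGr2
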