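import Groth.Agent.Lib.BlowGr2.Basic
import Groth.Agent.Lib.BlowUpExist.Local

/-!
The Grassmannian of the cokernel of a Koszul regular section is the blow-up.
-/

set_option autoImplicit false
set_option linter.style.haveILetI false
set_option backward.isDefEq.respectTransparency false
set_option backward.isDefEq.respectTransparency.types false
universe u

open TensorProduct Module CategoryTheory Limits AlgebraicGeometry TopologicalSpace Opposite
open Groth.Agent.GrassLib

noncomputable section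

namespace Groth.Agent.BlowGr2

variable {R : Type u} [CommRing R] {m : ℕ} (f : Fin (m + 1) → R)

/-- The ideal sheaf of the sequence. -/
abbrev JJ : (Spec (CommRingCat.of R)).IdealSheafData :=
  (Spec.map (CommRingCat.ofHom (Ideal.Quotient.mk (Ideal.span (Set.range f))))).ker

/-- The sequence as global functions. -/
abbrev gf (j : Fin (m + 1)) : Γ(Spec (CommRingCat.of R), ⊤) := (Scheme.ΓSpecIso (CommRingCat.of R)).inv (f j)

theorem ideal_top : (JJ f).ideal ⟨⊤, isAffineOpen_top _⟩ = Ideal.span (Set.range (gf f)) := by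
  let q := CommRingCat.ofHom (Ideal.Quotient.mk (Ideal.span (Set.range f)))
  rw [Scheme.Hom.ker_apply]
  ext z
  obtain ⟨r, rfl⟩ := (ConcreteCategory.bijective_of_isIso (Scheme.ΓSpecIso (CommRingCat.of R)).inv).2 z
  have h : (Spec.map q).appTop ((Scheme.ΓSpecIso (CommRingCat.of R)).inv r) =
      (Scheme.ΓSpecIso (CommRingCat.of (R ⧸ Ideal.span (Set.range f)))).inv (Ideal.Quotient.mk (Ideal.span (Set.range f)) r) :=
    (congrArg (fun φ => φ.hom r) (Scheme.ΓSpecIso_inv_naturality q)).symm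
  have h2 : (Spec.map q).appTop ((Scheme.ΓSpecIso (CommRingCat.of R)).inv r) = 0 ↔ r ∈ Ideal.span (Set.range f) := by
    rw [← Ideal.Quotient.eq_zero_iff_mem]
    constructor
    · intro h0
      refine (ConcreteCategory.bijective_of_isIso (Scheme.ΓSpecIso (CommRingCat.of
        (R ⧸ Ideal.span (Set.range f)))).inv).1 ?_
      exact (h.symm.trans h0).trans (map_zero _).symm
    · intro h0
      exact h.trans ((congrArg _ h0).trans (map_zero _))
  refine (RingHom.mem_ker.trans h2).trans ?_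
  have hr : Ideal.span (Set.range (gf f)) = (Ideal.span (Set.range f)).map (Scheme.ΓSpecIso (CommRingCat.of R)).inv.hom := by
    rw [Ideal.map_span, ← Set.range_comp]; rfl
  rw [hr]
  refine ⟨fun h0 => Ideal.mem_map_of_mem _ h0, fun h0 => ?_⟩
  obtain ⟨r', hr', he⟩ := (Ideal.mem_map_iff_of_surjective _
    (ConcreteCategory.bijective_of_isIso (Scheme.ΓSpecIso (CommRingCat.of R)).inv).2).1 h0
  rwa [← (ConcreteCategory.bijective_of_isIso (Scheme.ΓSpecIso (CommRingCat.of R)).inv).1 he]

variable {Y : Scheme.{u}} (g : Y ⟶ Spec (CommRingCat.of R))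

/-- The ring map attached to an affine open. -/
abbrev psi (W : Y.affineOpens) : R →+* Γ(Y, W.1) :=
  (Spec.preimage (W.2.fromSpec ≫ g)).hom

theorem psi_eq (W : Y.affineOpens) :
    Spec.preimage (W.2.fromSpec ≫ g) = (Scheme.ΓSpecIso (CommRingCat.of R)).inv ≫ g.appLE ⊤ W.1 le_top := by
  refine Spec.map_injective ?_
  rw [Spec.map_preimage, Spec.map_comp,
    ← IsAffineOpen.SpecMap_appLE_fromSpec g (isAffineOpen_top _) W.2 le_top,
    IsAffineOpen.fromSpec_top, Scheme.isoSpec_Spec_inv]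

theorem comap_ideal_eq (W : Y.affineOpens) :
    ((JJ f).comap g).ideal W = Ideal.span (Set.range fun j => psi g W (f j)) := by
  rw [EffCartier.comap_ideal (JJ f) g ⟨⊤, isAffineOpen_top _⟩ W le_top, ideal_top, Ideal.map_span,
    ← Set.range_comp]
  congr 2
  funext j
  exact (congrArg (fun φ : CommRingCat.of R ⟶ Γ(Y, W.1) => φ.hom (f j)) (psi_eq g W)).symm

/-- The ideal is generated by one regular member of the sequence. -/
def Good {A : Type u} [CommRing A] (ψ : R →+* A) : Prop :=
  ∃ k, ψ (f k) ∈ nonZeroDivisors A ∧ ∀ j, ψ (f k) ∣ ψ (f j)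

theorem exists_good (hg : BlowUp.IsEffCartierIdeal ((JJ f).comap g)) (y : Y) :
    ∃ W : Y.affineOpens, y ∈ W.1 ∧ Good f (psi g W) := by
  obtain ⟨W, hyW, t, ht⟩ := EffCartier.isEffCartierIdeal_iff.mp hg y
  have hI := (comap_ideal_eq f g W).symm.trans ht.ideal_eq
  have hdiv : ∀ j, t ∣ psi g W (f j) := fun j =>
    Ideal.mem_span_singleton.1 (hI ▸ Ideal.subset_span ⟨j, rfl⟩)
  choose u hu using hdiv
  obtain ⟨a, ha⟩ := Ideal.mem_span_range_iff_exists_fun.1 (hI.symm ▸ Ideal.mem_span_singleton_self t :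
    t ∈ Ideal.span (Set.range fun j => psi g W (f j)))
  have h1 : ∑ j, a j * u j = 1 := by
    refine (mul_cancel_left_mem_nonZeroDivisors ht.mem).1 ?_
    rw [mul_one, Finset.mul_sum]
    refine Eq.trans (Finset.sum_congr rfl fun j _ => ?_) ha
    rw [hu j]; ring
  obtain ⟨k, hk⟩ : ∃ k, y ∈ Y.basicOpen (u k) := by
    by_contra h
    push Not at h
    have h2 : ∀ j, Y.presheaf.germ W.1 y hyW (u j) ∈ IsLocalRing.maximalIdeal _ := fun j => by
      rw [IsLocalRing.mem_maximalIdeal]
      intro hu'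
      exact h j ((Y.mem_basicOpen (u j) y hyW).2 hu')
    have h3 := congrArg (Y.presheaf.germ W.1 y hyW) h1
    rw [map_sum, map_one] at h3
    refine (IsLocalRing.maximalIdeal.isMaximal (Y.presheaf.stalk y)).ne_top ((Ideal.eq_top_iff_one _).2 ?_)
    rw [← h3]
    exact sum_mem fun j _ => by rw [map_mul]; exact Ideal.mul_mem_left _ _ (h2 j)
  let W' := Y.affineBasicOpen (u k)
  let r := (Y.presheaf.map (homOfLE (Y.basicOpen_le (u k))).op).hom
  have hres : ∀ j, psi g W' (f j) = r (psi g W (f j)) := fun j => by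
    rw [show psi g W' = r.comp (psi g W) from ?_]
    · rfl
    · show (Spec.preimage (W'.2.fromSpec ≫ g)).hom = _
      rw [psi_eq, show psi g W = _ from congrArg CommRingCat.Hom.hom (psi_eq g W)]
      exact congrArg (fun φ => CommRingCat.Hom.hom ((Scheme.ΓSpecIso (CommRingCat.of R)).inv ≫ φ))
        (g.appLE_map (V := W.1) (U := ⊤) (show W.1 ≤ g ⁻¹ᵁ ⊤ from le_top) (homOfLE (Y.basicOpen_le (u k))).op).symm
  obtain ⟨v, hv⟩ := RingedSpace.isUnit_res_basicOpen Y.toLocallyRingedSpace.toRingedSpace (u k)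
  have hk' : psi g W' (f k) = r t * r (u k) := by rw [hres, hu k, map_mul]
  have hru : IsUnit (r (u k)) := ⟨v, hv⟩
  refine ⟨W', hk, k, ?_, fun j => ?_⟩
  · rw [hk']
    exact mul_mem (ht.basicOpen (u k)).mem hru.mem_nonZeroDivisors
  · rw [hk', hres j, hu j, map_mul]
    exact (hru.mul_right_dvd).2 (dvd_mul_right _ _)

theorem existsUnique_affine {A : CommRingCat.{u}} (g0 : Spec A ⟶ Spec (CommRingCat.of R))
    (h : Good f (Spec.preimage g0).hom) : ∃! h : Spec A ⟶ Gr R (MM f) m, h ≫ toBase R (MM f) m = g0 := by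
  obtain ⟨k, hk, hd⟩ := h
  letI : Algebra R A := (Spec.preimage g0).hom.toAlgebra
  have hstr : str R A = g0 := Spec.map_preimage g0
  obtain ⟨N, -, hN⟩ := existsUnique_pt (A := A) f k hk hd
  refine ⟨classify N, (classify_toBase N).trans hstr, fun h hh => ?_⟩
  obtain ⟨N', hN'⟩ := classify_surjective (A := A) h (hh.trans hstr.symm)
  rw [← hN', hN N' trivial]

theorem hom_unique (hg : BlowUp.IsEffCartierIdeal ((JJ f).comap g)) {h h' : Y ⟶ Gr R (MM f) m}
    (e : h ≫ toBase R (MM f) m = g) (e' : h' ≫ toBase R (MM f) m = g) : h = h' := by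
  choose W hy hW using exists_good f g hg
  refine Scheme.Cover.hom_ext (Scheme.openCoverOfIsOpenCover Y (fun y => (W y).1)
    (top_le_iff.mp fun y _ => Opens.mem_iSup.2 ⟨y, hy y⟩)) _ _ fun y => ?_
  change (W y).1.ι ≫ h = (W y).1.ι ≫ h'
  rw [← cancel_epi (W y).2.isoSpec.inv, ← Category.assoc, ← Category.assoc, IsAffineOpen.isoSpec_inv_ι]
  exact (existsUnique_affine f ((W y).2.fromSpec ≫ g) (hW y)).unique
    (by rw [Category.assoc, e]) (by rw [Category.assoc, e'])

theorem existsUnique_hom (hg : BlowUp.IsEffCartierIdeal ((JJ f).comap g)) :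
    ∃! h : Y ⟶ Gr R (MM f) m, h ≫ toBase R (MM f) m = g := by
  choose W hy hW using exists_good f g hg
  choose l hl _ using fun y => existsUnique_affine f ((W y).2.fromSpec ≫ g) (hW y)
  let 𝒰 := Scheme.openCoverOfIsOpenCover Y (fun y => (W y).1)
    (top_le_iff.mp fun y _ => Opens.mem_iSup.2 ⟨y, hy y⟩)
  let q : ∀ y, ((W y).1 : Scheme.{u}) ⟶ Gr R (MM f) m := fun y => (W y).2.isoSpec.hom ≫ l y
  have hq : ∀ y, q y ≫ toBase R (MM f) m = (W y).1.ι ≫ g := fun y => by
    simp only [q, Category.assoc, hl y, IsAffineOpen.isoSpec_hom_fromSpec_assoc]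
  have hcompat : ∀ a b : Y, pullback.fst (W a).1.ι (W b).1.ι ≫ q a = pullback.snd (W a).1.ι (W b).1.ι ≫ q b := by
    intro a b
    refine hom_unique f (pullback.fst (W a).1.ι (W b).1.ι ≫ (W a).1.ι ≫ g) ?_ ?_ ?_
    · rw [← Category.assoc, Scheme.IdealSheafData.comap_comp]
      exact BlowUpExist.isEffCartierIdeal_comap_of_isOpenImmersion hg _
    · rw [Category.assoc, hq]
    · rw [Category.assoc, hq, pullback.condition_assoc]
  refine ⟨𝒰.glueMorphisms q hcompat, ?_, fun h' e' => hom_unique f g hg e' ?_⟩ <;>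
  · refine 𝒰.hom_ext _ _ fun y => ?_
    rw [Scheme.Cover.ι_glueMorphisms_assoc]
    exact hq y

theorem isEffCartier_spec (C : Type u) [CommRing C] [Algebra R C] (k : Fin (m + 1))
    (hreg : algebraMap R C (f k) ∈ nonZeroDivisors C) (hdvd : ∀ j, algebraMap R C (f k) ∣ algebraMap R C (f j)) :
    BlowUp.IsEffCartierIdeal ((JJ f).comap (str R C)) := by
  let e := (Scheme.ΓSpecIso (CommRingCat.of C)).inv
  have he := ConcreteCategory.bijective_of_isIso e
  refine EffCartier.isEffCartierIdeal_iff.mpr fun x => ⟨⟨⊤, isAffineOpen_top _⟩, trivial,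
    e (algebraMap R C (f k)), ?_, ?_⟩
  · rw [mem_nonZeroDivisors_iff_right]
    intro z hz
    obtain ⟨z, rfl⟩ := he.2 z
    rw [← map_mul] at hz
    rw [mem_nonZeroDivisors_iff_right.1 hreg z (he.1 (hz.trans (map_zero e.hom).symm)), map_zero]
  · rw [EffCartier.comap_ideal_top, ideal_top]
    refine (Ideal.map_span (str R C).appTop.hom _).trans ?_
    rw [← Set.range_comp]
    have hn := Scheme.ΓSpecIso_inv_naturality (CommRingCat.ofHom (algebraMap R C))
    have hc : ∀ j, (str R C).appTop (gf f j) = e (algebraMap R C (f j)) := fun j => by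
      have h := ConcreteCategory.congr_hom hn (f j)
      rw [ConcreteCategory.comp_apply, ConcreteCategory.comp_apply] at h
      exact h.symm
    refine le_antisymm (Ideal.span_le.2 ?_) ((Ideal.span_singleton_le_iff_mem _).2 ?_)
    · rintro _ ⟨j, rfl⟩
      exact Ideal.mem_span_singleton.2 (Dvd.dvd.trans (map_dvd e.hom (hdvd j)) (dvd_of_eq (hc j).symm))
    · exact Ideal.subset_span ⟨k, hc k⟩

theorem isEffCartier_toBase (hf : CI2.Ex R R (List.ofFn f)) :
    BlowUp.IsEffCartierIdeal ((JJ f).comap (toBase R (MM f) m)) := by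
  refine BlowUpExist.isEffCartierIdeal_of_cover (fun k : Fin (m + 1) => inc (single (xk f k))) (fun p => ?_)
    fun k => ?_
  · let K := CommRingCat.of ((Gr R (MM f) m).residueField p)
    let i : Spec K ⟶ Gr R (MM f) m := (Gr R (MM f) m).fromSpecResidueField p
    letI : Algebra R K := (Spec.preimage (i ≫ toBase R (MM f) m)).hom.toAlgebra
    have hstr : i ≫ toBase R (MM f) m = str R K := (Spec.map_preimage _).symm
    obtain ⟨N, hN⟩ := classify_surjective (A := K) i hstr
    obtain ⟨k, hk⟩ := exists_chart_field f N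
    rw [classify_eq_chartMor hk, chartMor] at hN
    refine ⟨k, sp (ChartSet.desc (single_inChart hk)) (IsLocalRing.closedPoint _), ?_⟩
    have := congrArg (fun φ : Spec K ⟶ Gr R (MM f) m => φ (IsLocalRing.closedPoint K)) hN
    simp only [Scheme.Hom.comp_apply] at this
    exact this.trans (Scheme.fromSpecResidueField_apply p _)
  · rw [← Scheme.IdealSheafData.comap_comp, inc_toBase]
    exact isEffCartier_spec f _ k (chart_regular f hf k).1 (chart_regular f hf k).2

/-- The Grassmannian is the blow-up. -/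
theorem isBlowUp_toBase (hf : CI2.Ex R R (List.ofFn f)) :
    BlowUp.IsBlowUp (toBase R (MM f) m) (JJ f) :=
  ⟨isEffCartier_toBase f hf, fun _ g hg => existsUnique_hom f g hg⟩

theorem exists_iso (hf : CI2.Ex R R (List.ofFn f)) {B : Scheme.{u}} (b : B ⟶ Spec (CommRingCat.of R))
    (hb : BlowUp.IsBlowUp b (JJ f)) : Nonempty (Over.mk b ≅ grOver R (MM f) m) := by
  have hG := isBlowUp_toBase f hf
  obtain ⟨h1, e1, -⟩ := hG.2 B b hb.1
  obtain ⟨h2, e2, -⟩ := hb.2 _ _ hG.1
  have a : h1 ≫ h2 = 𝟙 B :=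
    (hb.2 B b hb.1).unique (by rw [Category.assoc, e2, e1]) (Category.id_comp b)
  have a' : h2 ≫ h1 = 𝟙 _ :=
    (hG.2 _ _ hG.1).unique (by rw [Category.assoc, e1, e2]) (Category.id_comp _)
  exact ⟨Over.isoMk ⟨h1, h2, a, a'⟩ e1⟩

end Groth.Agent.BlowGr2
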